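import Cfsg.Agent.H770.CY.Defs
import Cfsg.Agent.H709.BR.Alt
import Cfsg.Agent.Characters.GaloisBasic

/-!
# S4829: the row of the alternating groups, `n ≠ 6`, `p` odd (helper168)

The character of `H709.BR.Alt` (row of S4891), taken on the symmetric group: `Ψ = ch β ∘ φ`, `φ : A → S_n`.
-/

set_option autoImplicit false

namespace Cfsg.Agent.H168.CY

open Cfsg Cfsg.Agent Cfsg.Agent.H614 Cfsg.Agent.H133.PB Cfsg.Agent.H709.BR Cfsg.Agent.H770.CY Finset
open Cfsg.Agent.Characters.Core Cfsg.Agent.Blocks.Basic Cfsg.Agent.Blocks.Local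

universe u

/-- the partition of `H709.BR.Alt` -/
theorem exists_beta {n p : ℕ} [hp : Fact p.Prime] (hp2 : p ≠ 2) (hn : 5 ≤ n) (hpn : p ≤ n) :
    ∃ (k : ℕ) (β : Fin (k + 1) → ℕ), StrictMono β ∧ ∑ i, β i = n + ∑ i : Fin (k + 1), (i : ℕ) ∧
      SameCol p (tr k n) β ∧ ¬ (p : ℤ) ∣ FM (Multiset.replicate n 1) β ∧ FM (Multiset.replicate n 1) β ≠ 1 ∧
      FM (2 ::ₘ Multiset.replicate (n - 2) 1) β ≠ 0 := by
  have hp3 : 3 ≤ p := by have := hp.out.two_le; omega
  by_cases hne : n = 2 * p - 1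
  · obtain ⟨c, rfl⟩ : ∃ c, p = c + 2 := ⟨p - 2, by omega⟩
    have hn' : n = 2 * c + 3 := by omega
    subst hn'
    have hd : (2 * c + 3).choose (c + 3) = (2 * c + 3).choose c := by
      rw [← Nat.choose_symm_of_eq_add]; omega
    have hL := lucas (p := c + 2) (n := 2 * c + 3) (k := c + 3) (a := c + 1) (b := 1)
      (by
        have e : (2 * c + 3) % (c + 2) = c + 1 := by
          have : 2 * c + 3 = c + 1 + (c + 2) * 1 := by ring
          rw [this, Nat.add_mul_mod_self_left, Nat.mod_eq_of_lt (by omega)]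
        have e' : (c + 3) % (c + 2) = 1 := by
          have : c + 3 = 1 + (c + 2) * 1 := by ring
          rw [this, Nat.add_mul_mod_self_left, Nat.mod_eq_of_lt (by omega)]
        rw [e, e', Nat.choose_one_right])
      (by
        have e : (2 * c + 3) / (c + 2) = 1 := by
          have : 2 * c + 3 = c + 1 + (c + 2) * 1 := by ring
          rw [this, Nat.add_mul_div_left _ _ (by omega), Nat.div_eq_of_lt (by omega)]
        have e' : (c + 3) / (c + 2) = 1 := by
          have : c + 3 = 1 + (c + 2) * 1 := by ring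
          rw [this, Nat.add_mul_div_left _ _ (by omega), Nat.div_eq_of_lt (by omega)]
        rw [e, e', Nat.choose_self])
    have h1 : (((c + 2 : ℕ)) : ℤ) ∣ FM (Multiset.replicate (2 * c + 3) 1) (![1, c + 2, c + 3] : Fin 3 → ℕ) + 1 := by
      rw [deg_three]
      have e : (((2 * c + 3).choose (c + 3) : ℕ) : ℤ) + 1 =
          (((2 * c + 3).choose (c + 3) : ℕ) : ℤ) - ((c + 1 : ℕ) : ℤ) * (1 : ℕ) + ((c + 2 : ℕ) : ℤ) := by
        push_cast; ring
      rw [e]
      exact dvd_add hL dvd_rfl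
    obtain ⟨h2, h3⟩ := of_neg_one hp.out hp2 h1
    refine ⟨2, (![1, c + 2, c + 3] : Fin 3 → ℕ), ?_, ?_, ?_, h2, h3, ?_⟩
    · intro a b hab
      fin_cases a <;> fin_cases b <;> simp at hab ⊢
    · rw [Fin.sum_univ_three, Fin.sum_univ_three]
      simp
      ring
    · refine SameCol.trans ?_ (sameCol_comp (c + 2) (![1, c + 2, c + 3] : Fin 3 → ℕ) (Equiv.swap 0 1))
      apply H614.sameCol_of_mod
      intro j
      fin_cases j
      · simp [tr]
      · simp [tr, Fin.ext_iff, Fin.last]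
      · have e : (Equiv.swap (0 : Fin 3) 1) 2 = 2 := by decide
        have e1 : tr 2 (2 * c + 3) (2 : Fin 3) = 2 * c + 3 + 2 := tr_last 2 (2 * c + 3)
        show tr 2 (2 * c + 3) (2 : Fin 3) % (c + 2) = (![1, c + 2, c + 3] : Fin 3 → ℕ) (Equiv.swap (0 : Fin 3) 1 2) % (c + 2)
        rw [e, e1]
        show (2 * c + 3 + 2) % (c + 2) = (c + 3) % (c + 2)
        have e3 : 2 * c + 3 + 2 = c + 3 + (c + 2) * 1 := by ring
        rw [e3, Nat.add_mul_mod_self_left]
    · have e : 2 * c + 3 - 2 = 2 * c + 1 := by omega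
      rw [e]
      exact swap_three
  · obtain ⟨k, h1, h2, h3, h4, h5⟩ := exists_two hp2 hn hpn hne
    exact ⟨1, _, mono_two h2, sum_two (by omega), h3, h4, h5, swap_two hn h1 h2⟩

/-- the data on the symmetric group -/
structure Good (p : ℕ) (M : Ideal AlgInt) (n : ℕ) (χ : Equiv.Perm (Fin n) → ℂ) : Prop where
  char : IsCharacter (Equiv.Perm (Fin n)) χ
  blk : SameBlock M (fun _ : Equiv.Perm (Fin n) => (1 : ℂ)) χ
  int : ∀ g, ∃ z : ℤ, χ g = z
  deg : ∃ d : ℕ, χ 1 = d ∧ ¬ p ∣ d ∧ d ≠ 1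
  res : IsIrrCharacter (alternatingGroup (Fin n)) (fun g => χ g)

theorem exists_good {n p : ℕ} [hp : Fact p.Prime] (hp2 : p ≠ 2) (hn : 5 ≤ n) (hpn : p ≤ n) {M : Ideal AlgInt}
    (hM : IsPModular p M) : ∃ χ : Equiv.Perm (Fin n) → ℂ, Good p M n χ := by
  have hnt : Nontrivial (Fin n) := Fin.nontrivial_iff_two_le.2 (by omega)
  obtain ⟨k, β, hβ, hs, hc, hd, h1, hv⟩ := exists_beta hp2 hn hpn
  have hs' : ∑ i, β i = Fintype.card (Fin n) + ∑ i : Fin (k + 1), (i : ℕ) := by rwa [Fintype.card_fin]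
  have hc' : SameCol p (tr k (Fintype.card (Fin n))) β := by rwa [Fintype.card_fin]
  have hB := ch_mem_principalBlock (α := Fin n) hM hβ hs' hc'
  obtain ⟨ψ, hψ⟩ := exists_constituent (alternatingGroup (Fin n)) (isIrr_ch (α := Fin n) hβ hs')
  have hres : ∀ g : alternatingGroup (Fin n), ch (Fin n) β g = (ψ : alternatingGroup (Fin n) → ℂ) g := by
    rcases restrict_two (alternatingGroup (Fin n)) alternatingGroup.index_eq_two (isIrr_ch (α := Fin n) hβ hs') ψ.2 hψ
      with h | ⟨-, h⟩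
    · exact h
    · exfalso
      obtain ⟨a, b, hab⟩ := exists_pair_ne (Fin n)
      have h2 := h (Equiv.swap a b) (by
        rw [Equiv.Perm.mem_alternatingGroup, Equiv.Perm.sign_swap hab]
        decide)
      rw [ch_apply, ty_swap hab, Fintype.card_fin] at h2
      exact hv (by exact_mod_cast h2)
  refine ⟨ch (Fin n) β, isIrr_isCharacter (isIrr_ch hβ hs'), hB, fun g => ⟨_, ch_apply β g⟩, ?_, ?_⟩
  · obtain ⟨d, hd0, hd1⟩ := ch_one_pos (α := Fin n) hβ hs'
    have h2 : (d : ℤ) = FM (Multiset.replicate n 1) β := by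
      have h3 := hd1
      rw [ch_apply, ty_one, Fintype.card_fin] at h3
      exact_mod_cast h3.symm
    refine ⟨d, hd1, ?_, ?_⟩
    · intro h3
      apply hd
      rw [← h2]
      exact_mod_cast h3
    · intro h3
      apply h1
      rw [← h2, h3]
      rfl
  · have h2 : (fun g : alternatingGroup (Fin n) => ch (Fin n) β g) = (ψ : alternatingGroup (Fin n) → ℂ) := funext hres
    rw [h2]
    exact ψ.2

/-- the local congruence -/
theorem loc_of_block {G : Type u} [Group G] [Finite G] {p : ℕ} {M : Ideal AlgInt} (hM : IsPModular p M) {χ : G → ℂ}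
    (hb : SameBlock M (fun _ : G => (1 : ℂ)) χ) {d : ℕ} (hd : χ 1 = d) (hpd : ¬ p ∣ d) {g : G}
    (hg : ¬ p ∣ (Subgroup.centralizer ({g} : Set G)).index) : MemLocalIdeal M (χ g - χ 1) := by
  have hP : M.IsPrime := isPrime_of_isPModular hM
  have h1 := hb g
  unfold centralChar at h1
  set k := (Subgroup.centralizer ({g} : Set G)).index with hk
  have hk0 : (k : ℂ) ≠ 0 := by
    intro h
    apply hg
    have : k = 0 := by exact_mod_cast h
    rw [this]
    exact dvd_zero p
  have hd0 : (d : ℂ) ≠ 0 := by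
    intro h
    apply hpd
    have : d = 0 := by exact_mod_cast h
    rw [this]
    exact dvd_zero p
  have h2 : MemLocalRing M (-((d : ℂ) * (k : ℂ)⁻¹)) :=
    memLocalRing_neg (memLocalRing_mul (memLocalRing_natCast d) (memLocalRing_inv_natCast hM hg))
  have h3 := memLocalIdeal_mul_left h2 h1
  have e : -((d : ℂ) * (k : ℂ)⁻¹) * ((k : ℂ) * 1 / 1 - (k : ℂ) * χ g / χ 1) = χ g - χ 1 := by
    rw [hd]
    field_simp
    ring
  rwa [e] at h3

/-- integer valued characters are `p`-cyclotomic -/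
theorem cyc_of_int {G : Type u} [Group G] [Finite G] (p : ℕ) {χ : G → ℂ} (hχ : IsCharacter G χ)
    (hz : ∀ g, ∃ z : ℤ, χ g = z) : Cyc p χ := by
  intro k hk _ g
  obtain ⟨σ, hσ⟩ := Cfsg.Agent.Characters.GaloisBasic.exists_ringEquiv_of_coprime (G := G) hk
  rw [← hσ χ hχ g]
  obtain ⟨z, hz⟩ := hz g
  rw [hz, map_intCast]

/-! ### The witness -/

/-- `Aut (A_n) = S_n` -/
noncomputable def autE {n : ℕ} (hn : 4 ≤ n) (h6 : n ≠ 6) : Equiv.Perm (Fin n) ≃* MulAut (alternatingGroup (Fin n)) :=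
  MulEquiv.ofBijective _ (S2119.result n hn h6)

theorem autE_apply {n : ℕ} (hn : 4 ≤ n) (h6 : n ≠ 6) (σ : Equiv.Perm (Fin n)) (x : alternatingGroup (Fin n)) :
    ((autE hn h6 σ x : alternatingGroup (Fin n)) : Equiv.Perm (Fin n)) = σ * x * σ⁻¹ :=
  MulAut.conjNormal_apply σ x

section wit

variable {X : Type u} [Group X] {n : ℕ}

/-- `Aut X → S_n` -/
noncomputable def phi (hn : 4 ≤ n) (h6 : n ≠ 6) (e : X ≃* alternatingGroup (Fin n)) : MulAut X →* Equiv.Perm (Fin n) :=
  (autE hn h6).symm.toMonoidHom.comp (MulAut.congr e).toMonoidHom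

theorem phi_act (hn : 4 ≤ n) (h6 : n ≠ 6) (e : X ≃* alternatingGroup (Fin n)) (a : MulAut X) (x : X) :
    ((e (a x) : alternatingGroup (Fin n)) : Equiv.Perm (Fin n)) = phi hn h6 e a * e x * (phi hn h6 e a)⁻¹ := by
  have h1 : autE hn h6 (phi hn h6 e a) = MulAut.congr e a := (autE hn h6).apply_symm_apply _
  rw [← autE_apply hn h6, h1]
  change _ = ((e (a (e.symm (e x))) : alternatingGroup (Fin n)) : Equiv.Perm (Fin n))
  rw [e.symm_apply_apply]

theorem phi_conj (hn : 4 ≤ n) (h6 : n ≠ 6) (e : X ≃* alternatingGroup (Fin n)) (x : X) :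
    phi hn h6 e (MulAut.conj x) = e x := by
  have h1 : MulAut.congr e (MulAut.conj x) = autE hn h6 (e x : Equiv.Perm (Fin n)) := by
    ext y
    rw [autE_apply]
    have h2 : MulAut.congr e (MulAut.conj x) y = e (x * e.symm y * x⁻¹) := rfl
    rw [h2, map_mul, map_mul, map_inv, e.apply_symm_apply]
    rfl
  change (autE hn h6).symm (MulAut.congr e (MulAut.conj x)) = _
  rw [h1, MulEquiv.symm_apply_apply]

theorem witA {p : ℕ} [hp : Fact p.Prime] (hp2 : p ≠ 2) (hn : 5 ≤ n) (h6 : n ≠ 6) [Fintype X]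
    (e : X ≃* alternatingGroup (Fin n)) {M : Ideal AlgInt} (hM : IsPModular p M) {χ : Equiv.Perm (Fin n) → ℂ}
    (hχ : Good p M n χ) (A : Subgroup (MulAut X)) (hA : ∀ s : X, MulAut.conj s ∈ A) :
    WitA p M X A hA (fun a : A => χ (phi (by omega) h6 e a)) := by
  set φ := phi (by omega : 4 ≤ n) h6 e with hφ
  have hfin : Finite (MulAut X) := inferInstance
  have hchar : IsCharacter A (fun a : A => χ (φ a)) := isCharacter_comp (φ.comp A.subtype) hχ.char
  -- the restriction to `X`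
  have hres : res hA (fun a : A => χ (φ a)) = (fun g : alternatingGroup (Fin n) => χ g) ∘ e := by
    funext x
    change χ (φ (MulAut.conj x)) = χ (e x)
    rw [hφ, phi_conj]
  have hirr : IsIrrCharacter X (res hA (fun a : A => χ (φ a))) := by
    rw [hres]
    exact isIrr_comp e.toMonoidHom e.surjective hχ.res
  obtain ⟨d, hd, hpd, hd1⟩ := hχ.deg
  refine ⟨hchar, cyc_of_int p hchar fun a => hχ.int _, ⟨d, ?_, hpd⟩, ?_, ?_⟩
  · change χ (φ 1) = d
    rw [map_one, hd]
  · intro θ
    have e1 : mul (res hA (fun a : A => χ (φ a))) (θ : X → ℂ) =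
        classInner (res hA (fun a : A => χ (φ a))) (θ : X → ℂ) := by
      rw [Characters.Core.classInner_def]
      rfl
    rw [e1, classInner_irr hirr θ.2]
    by_cases h1 : res hA (fun a : A => χ (φ a)) = (θ : X → ℂ)
    · right
      refine ⟨if_pos h1, ?_, ?_⟩
      · intro h2
        have h3 : χ (φ (MulAut.conj (1 : X))) = 1 := by
          have h4 := congrFun (h1.trans h2) (1 : X)
          exact h4
        rw [map_one, map_one, hd] at h3
        exact hd1 (by exact_mod_cast h3)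
      · rw [← h1]
        refine cyc_of_int p (isIrr_isCharacter hirr) fun g => ?_
        exact hχ.int _
    · left
      exact if_neg h1
  · rintro a - ⟨Q, hQ⟩
    change MemLocalIdeal M (χ (φ a) - χ (φ 1))
    rw [map_one]
    refine loc_of_block hM hχ.blk hd hpd ?_
    -- the image of `Q` centralises `φ a`
    let f : X →* Equiv.Perm (Fin n) := (alternatingGroup (Fin n)).subtype.comp e.toMonoidHom
    have hf : Function.Injective f := (alternatingGroup (Fin n)).subtype_injective.comp e.injective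
    have h1 : (Q : Subgroup X).map f ≤ Subgroup.centralizer ({φ a} : Set (Equiv.Perm (Fin n))) := by
      rintro _ ⟨x, hx, rfl⟩
      rw [Subgroup.mem_centralizer_singleton_iff]
      have h2 := phi_act (by omega : 4 ≤ n) h6 e a x
      rw [hQ x hx, ← hφ] at h2
      have h3 : ((e x : alternatingGroup (Fin n)) : Equiv.Perm (Fin n)) * φ a = φ a * e x := by
        rw [h2, inv_mul_cancel_right, ← h2]
      exact h3
    have h2 : ¬ p ∣ ((Q : Subgroup X).map f).index := by
      have hQi : ¬ p ∣ (Q : Subgroup X).index := Q.not_dvd_index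
      intro h3
      have h4 : ((Q : Subgroup X).map f).index * Nat.card ((Q : Subgroup X).map f) = Nat.card (Equiv.Perm (Fin n)) :=
        Subgroup.index_mul_card _
      have h5 : (Q : Subgroup X).index * Nat.card (Q : Subgroup X) = Nat.card X := Subgroup.index_mul_card _
      have h6' : Nat.card (Equiv.Perm (Fin n)) = 2 * Nat.card X := by
        rw [Nat.card_congr e.toEquiv, card_alt n (by omega), Nat.card_perm, Nat.card_eq_fintype_card, Fintype.card_fin]
      rw [Subgroup.card_map_of_injective hf, h6', ← h5, ← mul_assoc] at h4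
      have h7 := Nat.eq_of_mul_eq_mul_right Nat.card_pos h4
      rw [h7] at h3
      rcases (Nat.Prime.dvd_mul hp.out).1 h3 with h8 | h8
      · exact hp2 ((Nat.prime_dvd_prime_iff_eq hp.out Nat.prime_two).1 h8)
      · exact hQi h8
    intro h3
    exact h2 (h3.trans (Subgroup.index_dvd_of_le h1))

end wit

/-- **The row of the alternating groups, `n ≠ 6`.** -/
theorem alt_ne_six {p : ℕ} [hp : Fact p.Prime] (hp2 : p ≠ 2) :
    RowForA p (fun X _ => ∃ n : ℕ, 5 ≤ n ∧ n ≠ 6 ∧ Nonempty (X ≃* alternatingGroup (Fin n))) := by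
  intro X _ _ _ _ hd hC
  obtain ⟨n, hn, h6, ⟨e⟩⟩ := hC
  have hpn : p ≤ n := by
    rw [Nat.card_congr e.toEquiv] at hd
    have h1 := card_alt n (by omega)
    exact (hp.out.dvd_factorial).1 (h1 ▸ Dvd.dvd.mul_left hd 2)
  intro A hA M hM
  obtain ⟨χ, hχ⟩ := exists_good hp2 hn hpn hM
  exact ⟨_, witA hp2 hn h6 e hM hχ A hA.1⟩

end Cfsg.Agent.H168.CY
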