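import Cfsg.Agent.H168.CY.Alt
import Cfsg.Agent.S0254

/-!
# S4829: the row of the alternating groups (helper168)

`n = 6` from the rows `psl` and `lie` (`A_6 = PSL_2(9)`).
-/

set_option autoImplicit false

namespace Cfsg.Agent.H168.CY

open Cfsg Cfsg.Agent Cfsg.Agent.H770.CY

/-- **The row of the alternating groups** -/
theorem alt_of {p : ℕ} [hp : Fact p.Prime] (hp2 : p ≠ 2)
    (hpsl : RowForA p (fun X _ => ∃ (F : Type) (_ : Field F) (_ : Fintype F) (n : ℕ), (p : F) ≠ 0 ∧ 2 ≤ n ∧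
      Nonempty (X ≃* Matrix.ProjectiveSpecialLinearGroup (Fin n) F)))
    (hlie : RowForA p (fun X _ => IsLieTypeChar p X)) : RowForA p (fun X _ => IsAlternating X) := by
  intro X _ _ _ hna hd hC
  obtain ⟨n, hn, ⟨e⟩⟩ := hC
  by_cases h6 : n = 6
  · subst h6
    have h3 : Fact (Nat.Prime 3) := ⟨Nat.prime_three⟩
    let _ : Fintype (GaloisField 3 2) := Fintype.ofFinite _
    have hF : Fintype.card (GaloisField 3 2) = 3 ^ 2 := by
      rw [← Nat.card_eq_fintype_card]; exact GaloisField.card 3 2 (by norm_num)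
    obtain ⟨f⟩ := S0254.result (F := GaloisField 3 2) (by rw [hF]; norm_num)
    by_cases hp3 : p = 3
    · subst hp3
      exact hlie X hna hd (Or.inl ⟨GaloisField 3 2, inferInstance, inferInstance, inferInstance, 2, le_rfl,
        fun _ => by rw [hF]; norm_num, ⟨e.trans f.symm⟩⟩)
    · refine hpsl X hna hd ⟨GaloisField 3 2, inferInstance, inferInstance, 2, ?_, le_rfl, ⟨e.trans f.symm⟩⟩
      intro h0
      have h1 : CharP (GaloisField 3 2) 3 := inferInstance
      rw [CharP.cast_eq_zero_iff (GaloisField 3 2) 3 p] at h0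
      exact hp3 ((Nat.prime_dvd_prime_iff_eq Nat.prime_three hp.out).1 h0).symm
  · exact alt_ne_six hp2 X hna hd ⟨n, hn, h6, ⟨e⟩⟩

end Cfsg.Agent.H168.CY
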